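import Mathlib.RingTheory.DiscreteValuationRing.TFAE
import Mathlib.RingTheory.Filtration
import Mathlib.RingTheory.LocalRing.RingHom.Basic

/-!
A local homomorphism with a retraction whose kernel is a principal ideal generated by a regular
element: the closed fibre is a discrete valuation ring.
-/

set_option autoImplicit false

universe u

open IsLocalRing

namespace Groth.Agent.FibSect11

variable {A R : Type u} [CommRing A] [IsLocalRing A] [CommRing R] (φ : A →+* R) (σ : R →+* A)
  (hσ : ∀ a, σ (φ a) = a) {t : R}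

include hσ in
theorem sigma_mem {b : R} (hb : b ∈ (maximalIdeal A).map φ) : σ b ∈ maximalIdeal A := by
  induction hb using Submodule.span_induction with
  | mem x hx => obtain ⟨a, ha, rfl⟩ := hx; rwa [hσ]
  | zero => rw [map_zero]; exact zero_mem _
  | add x y _ _ hx hy => rw [map_add]; exact add_mem hx hy
  | smul r x _ hx => rw [smul_eq_mul, map_mul]; exact Ideal.mul_mem_left _ _ hx

include hσ in
theorem sub_sigma_mem (hker : ∀ b, σ b = 0 → ∃ c, b = t * c) {b : R} (hb : b ∈ (maximalIdeal A).map φ) :
    ∃ b' ∈ (maximalIdeal A).map φ, b - φ (σ b) = t * b' := by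
  induction hb using Submodule.span_induction with
  | mem x hx => obtain ⟨a, ha, rfl⟩ := hx; exact ⟨0, zero_mem _, by rw [hσ, sub_self, mul_zero]⟩
  | zero => exact ⟨0, zero_mem _, by simp⟩
  | add x y _ _ hx hy =>
    obtain ⟨x', hx', ex⟩ := hx
    obtain ⟨y', hy', ey⟩ := hy
    exact ⟨x' + y', add_mem hx' hy', by rw [map_add, map_add]; linear_combination ex + ey⟩
  | smul r x hxm hx =>
    obtain ⟨x', hx', ex⟩ := hx
    obtain ⟨r', er⟩ := hker (r - φ (σ r)) (by rw [map_sub, hσ, sub_self])
    refine ⟨φ (σ r) * x' + r' * x, add_mem (Ideal.mul_mem_left _ _ hx') (Ideal.mul_mem_left _ _ hxm), ?_⟩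
    rw [smul_eq_mul, map_mul, map_mul]
    linear_combination (φ (σ r)) * ex + x * er

include hσ in
theorem pow_notMem_map (hker : ∀ b, σ b = 0 → ∃ c, b = t * c) (ht0 : σ t = 0) (htreg : IsLeftRegular t) (n : ℕ) :
    ∀ b ∈ (maximalIdeal A).map φ, ∀ c : R, t ^ n ≠ b + t ^ (n + 1) * c := by
  induction n with
  | zero =>
    intro b hb c h
    have h1 := congrArg σ h
    rw [pow_zero, map_one, map_add, map_mul, map_pow, ht0] at h1
    simp only [zero_add, pow_one, zero_mul, add_zero] at h1
    exact (Ideal.ne_top_iff_one _).1 (maximalIdeal.isMaximal A).ne_top (h1 ▸ sigma_mem φ σ hσ hb)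
  | succ n ih =>
    intro b hb c h
    have h1 := congrArg σ h
    rw [map_pow, map_add, map_mul, map_pow, ht0, zero_pow (Nat.succ_ne_zero _),
      zero_pow (Nat.succ_ne_zero _), zero_mul, add_zero] at h1
    obtain ⟨b', hb', e⟩ := sub_sigma_mem φ σ hσ hker hb
    rw [← h1, map_zero, sub_zero] at e
    refine ih b' hb' c (htreg ?_)
    show t * t ^ n = t * (b' + t ^ (n + 1) * c)
    calc t * t ^ n = t ^ (n + 1) := (pow_succ' t n).symm
      _ = b + t ^ (n + 1 + 1) * c := h
      _ = _ := by rw [e]; ring

include hσ in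
/-- The closed fibre is a discrete valuation ring. -/
theorem isDiscreteValuationRing_fibre [IsLocalRing R] {S : Type u} [CommRing S] [IsLocalRing S] [IsNoetherianRing S]
    (hker : ∀ b, σ b = 0 → ∃ c, b = t * c) (ht0 : σ t = 0) (htreg : IsLeftRegular t) (f : R →+* S)
    (hf : Function.Surjective f) (hfker : ∀ b, f b = 0 ↔ b ∈ (maximalIdeal A).map φ) :
    ∃ _ : IsDomain S, IsDiscreteValuationRing S := by
  have hpow : ∀ n : ℕ, f t ^ n ≠ 0 := fun n h => by
    rw [← map_pow, hfker] at h
    exact pow_notMem_map φ σ hσ hker ht0 htreg n _ h 0 (by rw [mul_zero, add_zero])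
  have hmax : maximalIdeal S = Ideal.span {f t} := by
    refine le_antisymm (fun s hs => ?_) ((Ideal.span_singleton_le_iff_mem _).2 ?_)
    · obtain ⟨r, rfl⟩ := hf s
      have hr : ¬ IsUnit r := fun h => hs (h.map f)
      have hsr : ¬ IsUnit (σ r) := fun h => by
        obtain ⟨c, hc⟩ := hker (r - φ (σ r)) (by rw [map_sub, hσ, sub_self])
        have htm : t * c ∈ maximalIdeal R := Ideal.mul_mem_right _ _ fun h' => by
          have := h'.map σ
          rw [ht0] at this
          exact not_isUnit_zero this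
        have hu : IsUnit (φ (σ r)) := h.map φ
        refine (maximalIdeal.isMaximal R).ne_top (Ideal.eq_top_of_isUnit_mem _ ?_ hu)
        rw [show φ (σ r) = r - t * c by linear_combination -hc]
        exact sub_mem hr htm
      obtain ⟨c, hc⟩ := hker (r - φ (σ r)) (by rw [map_sub, hσ, sub_self])
      rw [show r = φ (σ r) + t * c by linear_combination hc, map_add,
        (hfker _).2 (Ideal.mem_map_of_mem φ hsr), zero_add, map_mul]
      exact Ideal.mem_span_singleton'.2 ⟨f c, mul_comm _ _⟩
    · intro h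
      obtain ⟨v, hv⟩ := h
      obtain ⟨w, hw⟩ := hf ↑v⁻¹
      have h1 : f (t * w - 1) = 0 := by rw [map_sub, map_mul, map_one, hw, ← hv, Units.mul_inv, sub_self]
      have h2 := sigma_mem φ σ hσ ((hfker _).1 h1)
      rw [map_sub, map_mul, ht0, zero_mul, map_one, zero_sub, neg_mem_iff] at h2
      exact (Ideal.ne_top_iff_one _).1 (maximalIdeal.isMaximal A).ne_top h2
  have hdec : ∀ s : S, s ≠ 0 → ∃ (u : Sˣ) (k : ℕ), s = u * f t ^ k := by
    intro s hs
    classical
    have hex : ∃ k, s ∉ maximalIdeal S ^ k := by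
      by_contra h
      push Not at h
      have : s ∈ ⨅ k, maximalIdeal S ^ k := Submodule.mem_iInf _ |>.2 h
      rw [Ideal.iInf_pow_eq_bot_of_isLocalRing _ (maximalIdeal.isMaximal S).ne_top] at this
      exact hs (by simpa using this)
    let k := Nat.find hex
    have hk0 : k ≠ 0 := fun h => by
      have := Nat.find_spec hex
      rw [show Nat.find hex = 0 from h, pow_zero, Ideal.one_eq_top] at this
      exact this trivial
    obtain ⟨l, hl⟩ := Nat.exists_eq_succ_of_ne_zero hk0
    have hmem : s ∈ maximalIdeal S ^ l := not_not.1 (Nat.find_min hex (by omega : l < Nat.find hex))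
    have hnot : s ∉ maximalIdeal S ^ (l + 1) := by rw [show l + 1 = Nat.find hex by omega]; exact Nat.find_spec hex
    rw [hmax, Ideal.span_singleton_pow, Ideal.mem_span_singleton'] at hmem
    obtain ⟨a, ha⟩ := hmem
    have hu : IsUnit a := by
      by_contra h
      have ha' : a ∈ maximalIdeal S := h
      exact hnot (by rw [← ha, pow_succ']; exact Ideal.mul_mem_mul ha' (Ideal.pow_mem_pow
        (hmax ▸ Ideal.mem_span_singleton_self _) l))
    exact ⟨hu.unit, l, by rw [IsUnit.unit_spec, ha]⟩
  haveI : IsDomain S := by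
    haveI : NoZeroDivisors S := ⟨fun {a b} h => by
      by_contra hne
      push Not at hne
      obtain ⟨u, k, rfl⟩ := hdec a hne.1
      obtain ⟨v, l, rfl⟩ := hdec b hne.2
      have : (↑(u * v) : S) * f t ^ (k + l) = 0 := by rw [Units.val_mul, pow_add, ← h]; ring
      exact hpow _ ((Units.mul_right_eq_zero _).1 this)⟩
    exact NoZeroDivisors.to_isDomain S
  have hnf : ¬ IsField S := fun h => by
    have h0 := isField_iff_maximalIdeal_eq.1 h
    rw [hmax, Ideal.span_singleton_eq_bot] at h0
    exact hpow 1 (by rw [pow_one, h0])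
  refine ⟨inferInstance, ((IsDiscreteValuationRing.TFAE S hnf).out 4 0).1 ?_⟩
  exact ⟨f t, hmax⟩

end Groth.Agent.FibSect11
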